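import Cfsg.Prelude.Def_Perm
import Mathlib.FieldTheory.Finite.GaloisField
import Mathlib.FieldTheory.Galois.Basic
import Mathlib.NumberTheory.Fermat
import Mathlib.GroupTheory.Sylow
import Mathlib.Algebra.Module.ZMod
import Mathlib.GroupTheory.PGroup

/-!
# Groups of degree `p + 1` with a regular normal subgroup are semi-affine over `GF(2^q)`

`G` acts faithfully on `p + 1` points, `p` an odd prime, a point stabiliser normalises a subgroup
`U` of order `p` regular on the remaining points, and `G` has a regular normal subgroup `N`.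
Then `N` is elementary abelian of order `2^q` with `q` prime, and `G` consists of semi-affine maps
of the field with `2^q` elements.
-/

set_option autoImplicit false

namespace Cfsg.Agent.Lib.PrimeKernel

open MulAction Polynomial

variable {G : Type*} [Group G] {α : Type*} [MulAction G α]

/-- `U` is transitive by conjugation on the non-identity elements of a regular normal subgroup. -/
theorem conj_transitive {a : α} {U N : Subgroup G} [N.Normal] (hUa : U ≤ stabilizer G a)
    (hreg : ∀ y z : α, y ≠ a → z ≠ a → ∃! u : U, (u : G) • y = z)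
    (hNr : ∀ b : α, stabilizer N b = ⊥) {n m : G} (hn : n ∈ N) (hm : m ∈ N) (hn1 : n ≠ 1)
    (hm1 : m ≠ 1) : ∃ u ∈ U, u * n * u⁻¹ = m := by
  have hfree : ∀ x ∈ N, x • a = a → x = 1 := fun x hx hxa => by
    have h : (⟨x, hx⟩ : N) ∈ stabilizer N a := hxa
    rw [hNr a, Subgroup.mem_bot] at h
    exact congrArg Subtype.val h
  obtain ⟨⟨u, hu⟩, hu', -⟩ :=
    hreg (n • a) (m • a) (fun h => hn1 (hfree n hn h)) (fun h => hm1 (hfree m hm h))
  refine ⟨u, hu, ?_⟩
  have hua : u⁻¹ • a = a := inv_mem (hUa hu)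
  have hmn : m⁻¹ * (u * n * u⁻¹) ∈ N :=
    mul_mem (inv_mem hm) (Subgroup.Normal.conj_mem inferInstance n hn u)
  have h1 : (u * n * u⁻¹) • a = m • a := by rw [mul_smul, mul_smul, hua]; exact hu'
  have h2 := hfree _ hmn (by rw [mul_smul, h1, inv_smul_smul])
  exact (inv_mul_eq_one.1 h2).symm

variable [Finite G] [Fintype α]

set_option maxHeartbeats 1000000 in
-- long construction
theorem exists_semiaffine [FaithfulSMul G α] {p d : ℕ} (hp : p.Prime) (hp2 : p ≠ 2)
    (hα : Fintype.card α = p + 1) {a : α} {U : Subgroup G} (hUa : U ≤ stabilizer G a)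
    (hUc : Nat.card U = p)
    (hUn : ∀ h ∈ stabilizer G a, ∀ u ∈ U, h * u * h⁻¹ ∈ U)
    (hreg : ∀ y z : α, y ≠ a → z ≠ a → ∃! u : U, (u : G) • y = z)
    (hstab : Nat.card (stabilizer G a) = p * d)
    {N : Subgroup G} [N.Normal] (hNt : IsPretransitive N α)
    (hNr : ∀ b : α, stabilizer N b = ⊥) :
    ∃ q : ℕ, q.Prime ∧ p + 1 = 2 ^ q ∧ (d = 1 ∨ d = q) ∧
      ∃ e : α ≃ GaloisField 2 q, ∀ g : G, ∃ (c : (GaloisField 2 q)ˣ) (b : GaloisField 2 q)
        (φ : GaloisField 2 q ≃+* GaloisField 2 q),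
        ∀ x, e (g • e.symm x) = (c : GaloisField 2 q) * φ x + b := by
  classical
  haveI : Fact p.Prime := ⟨hp⟩
  -- `N` is regular
  have hbij : Function.Bijective fun n : N => (n : G) • a := by
    refine ⟨fun n m h => ?_, fun x => ?_⟩
    · have h1 : n⁻¹ * m ∈ stabilizer N a := by
        rw [mem_stabilizer_iff, mul_smul]
        show n⁻¹ • ((m : G) • a) = a
        rw [← show (n : G) • a = (m : G) • a from h]
        exact inv_smul_smul n a
      rw [hNr a, Subgroup.mem_bot, inv_mul_eq_one] at h1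
      exact h1
    · obtain ⟨n, hn⟩ := exists_smul_eq N a x
      exact ⟨n, hn⟩
  have hNc : Nat.card N = p + 1 := by
    rw [Nat.card_eq_of_bijective _ hbij, Nat.card_eq_fintype_card, hα]
  -- all non-identity elements are conjugate involutions
  have hexp : ∀ n ∈ N, n * n = 1 := by
    obtain ⟨t, ht⟩ := exists_prime_orderOf_dvd_card' (G := N) 2 (by
      rw [hNc]; exact even_iff_two_dvd.1 (hp.odd_of_ne_two hp2).add_one)
    have ht1 : (t : G) ≠ 1 := by
      intro h
      rw [show t = 1 from Subtype.ext h, orderOf_one] at ht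
      omega
    have htt : (t : G) * t = 1 := by
      have := pow_orderOf_eq_one t
      rw [ht, pow_two] at this
      exact congrArg Subtype.val this
    intro n hn
    by_cases hn1 : n = 1
    · simp [hn1]
    obtain ⟨u, -, hu⟩ := conj_transitive hUa hreg hNr t.2 hn ht1 hn1
    rw [← hu, show u * (t : G) * u⁻¹ * (u * t * u⁻¹) = u * (t * t) * u⁻¹ by group, htt]
    group
  letI hNcomm : CommGroup N :=
    { (inferInstance : Group N) with
      mul_comm := fun x y => by
        have hx : x⁻¹ = x := inv_eq_of_mul_eq_one_left (Subtype.ext (hexp x x.2))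
        have hy : y⁻¹ = y := inv_eq_of_mul_eq_one_left (Subtype.ext (hexp y y.2))
        have hxy : (x * y)⁻¹ = x * y :=
          inv_eq_of_mul_eq_one_left (Subtype.ext (hexp (x * y : N) (x * y : N).2))
        calc x * y = (x * y)⁻¹ := hxy.symm
          _ = y * x := by rw [mul_inv_rev, hx, hy] }
  -- the exponent
  obtain ⟨q, hq⟩ : ∃ q, Nat.card N = 2 ^ q :=
    IsPGroup.iff_card.1 fun x => ⟨1, by rw [pow_one, pow_two]; exact Subtype.ext (hexp x x.2)⟩
  have hpq : p + 1 = 2 ^ q := hNc.symm.trans hq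
  have hqp : q.Prime := by
    refine (Nat.prime_of_pow_sub_one_prime (a := 2) ?_ ?_).2
    · rintro rfl
      have := hp.two_le
      omega
    · rw [← hpq, Nat.add_sub_cancel]; exact hp
  haveI : NeZero q := ⟨hqp.ne_zero⟩
  -- the module
  let M := Additive N
  letI : Module (ZMod 2) M := AddCommGroup.zmodModule fun x => by
    rw [two_nsmul]
    exact congrArg Additive.ofMul (Subtype.ext (hexp x.toMul x.toMul.2) : x.toMul * x.toMul = 1)
  let act : G → M ≃+ M := fun g => MulEquiv.toAdditive (MulAut.conjNormal g)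
  have act_mul : ∀ g h (x : M), act (g * h) x = act g (act h x) := by
    intro g h x
    show Additive.ofMul (MulAut.conjNormal (g * h) x.toMul) = _
    rw [map_mul]
    rfl
  have act_one : ∀ x : M, act 1 x = x := fun x => by
    show Additive.ofMul (MulAut.conjNormal (1 : G) x.toMul) = _
    rw [map_one]
    rfl
  have act_val : ∀ g (x : M), ((act g x).toMul : G) = g * (x.toMul : G) * g⁻¹ := fun g x =>
    MulAut.conjNormal_apply g x.toMul
  -- a generator of `U`
  obtain ⟨u0, hu0⟩ := (isCyclic_of_prime_card hUc).exists_generator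
  set u : G := (u0 : G) with hu
  have huU : ∀ w ∈ U, ∃ k : ℕ, u ^ k = w := by
    intro w hw
    obtain ⟨k, hk⟩ : (⟨w, hw⟩ : U) ∈ Submonoid.powers u0 :=
      (isOfFinOrder_of_finite u0).mem_powers_iff_mem_zpowers.2 (hu0 _)
    exact ⟨k, by simpa [hu] using congrArg Subtype.val hk⟩
  -- a base vector
  obtain ⟨v0, hv0⟩ : ∃ v : M, v ≠ 0 := by
    haveI : Nontrivial N := Finite.one_lt_card_iff_nontrivial.1 (by rw [hNc]; have := hp.pos; omega)
    exact exists_ne _
  have hgenM : ∀ x : M, x ≠ 0 → ∃ k : ℕ, act (u ^ k) v0 = x := by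
    intro x hx
    have h1 : (v0.toMul : G) ≠ 1 := fun h => hv0 (congrArg Additive.ofMul (Subtype.ext h : v0.toMul = 1))
    have h2 : (x.toMul : G) ≠ 1 := fun h => hx (congrArg Additive.ofMul (Subtype.ext h : x.toMul = 1))
    obtain ⟨w, hw, hwx⟩ := conj_transitive hUa hreg hNr v0.toMul.2 x.toMul.2 h1 h2
    obtain ⟨k, rfl⟩ := huU w hw
    exact ⟨k, congrArg Additive.ofMul (Subtype.ext ((act_val _ _).trans hwx) :
      (act (u ^ k) v0).toMul = x.toMul)⟩
  -- the linear map and its polynomial algebra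
  let T : Module.End (ZMod 2) M := (act u).toAddMonoidHom.toZModLinearMap 2
  have hT : ∀ (k : ℕ) (x : M), (T ^ k) x = act (u ^ k) x := by
    intro k
    induction k with
    | zero => intro x; rw [pow_zero, pow_zero, act_one]; rfl
    | succ k ih =>
      intro x
      rw [pow_succ', pow_succ', act_mul, Module.End.mul_apply, ih]
      rfl
  let I : Ideal (ZMod 2)[X] := RingHom.ker (aeval T).toRingHom
  let L : (ZMod 2)[X] ⧸ I →+* Module.End (ZMod 2) M :=
    Ideal.Quotient.lift I (aeval T).toRingHom fun _ h => h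
  let ψ : (ZMod 2)[X] ⧸ I →+ M :=
    { toFun := fun r => L r v0
      map_zero' := by simp
      map_add' := fun r s => by simp }
  have hψmk : ∀ f, ψ (Ideal.Quotient.mk I f) = aeval T f v0 := fun f => rfl
  have hψbij : Function.Bijective ψ := by
    refine ⟨(injective_iff_map_eq_zero ψ).2 fun r hr => ?_, fun x => ?_⟩
    · obtain ⟨f, rfl⟩ := Ideal.Quotient.mk_surjective r
      rw [hψmk] at hr
      rw [Ideal.Quotient.eq_zero_iff_mem, RingHom.mem_ker]
      show aeval T f = 0
      refine LinearMap.ext fun x => ?_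
      rw [LinearMap.zero_apply]
      by_cases hx : x = 0
      · rw [hx, map_zero]
      obtain ⟨k, hk⟩ := hgenM x hx
      rw [← hk, ← hT, ← Module.End.mul_apply,
        show aeval T f * T ^ k = T ^ k * aeval T f by
          rw [← aeval_X_pow (R := ZMod 2) T, ← map_mul, ← map_mul, mul_comm],
        Module.End.mul_apply, hr, map_zero]
    · by_cases hx : x = 0
      · exact ⟨0, by rw [hx, map_zero]⟩
      obtain ⟨k, hk⟩ := hgenM x hx
      exact ⟨Ideal.Quotient.mk I (X ^ k), by rw [hψmk, aeval_X_pow, hT, hk]⟩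
  have hψmul : ∀ r, ψ (Ideal.Quotient.mk I X * r) = act u (ψ r) := by
    intro r
    show L (Ideal.Quotient.mk I X * r) v0 = _
    rw [map_mul, Module.End.mul_apply]
    show (aeval T X) (ψ r) = _
    rw [aeval_X]
    rfl
  let R := (ZMod 2)[X] ⧸ I
  let X' : R := Ideal.Quotient.mk I X
  have hψpow : ∀ (k : ℕ) r, ψ (X' ^ k * r) = act (u ^ k) (ψ r) := by
    intro k
    induction k with
    | zero => intro r; rw [pow_zero, one_mul, pow_zero, act_one]
    | succ k ih => intro r; rw [pow_succ', mul_assoc, hψmul, ih, pow_succ', act_mul]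
  have hψone : ψ 1 = v0 := by
    show L 1 v0 = v0
    rw [map_one]
    rfl
  -- `R` is a field
  have hXp : X' ^ p = 1 := hψbij.1 (by
    rw [← mul_one (X' ^ p), hψpow, hψone, show u ^ p = 1 by
      rw [← hUc, hu, ← Subgroup.coe_pow, pow_card_eq_one', Subgroup.coe_one], act_one])
  have hRgen : ∀ r : R, r ≠ 0 → ∃ k : ℕ, X' ^ k = r := by
    intro r hr
    obtain ⟨k, hk⟩ := hgenM (ψ r) fun h => hr (hψbij.1 (h.trans (map_zero ψ).symm))
    exact ⟨k, hψbij.1 (by rw [← mul_one (X' ^ k), hψpow, hψone, hk])⟩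
  have hRfield : IsField R := by
    refine ⟨⟨0, 1, fun h => hv0 ?_⟩, mul_comm, fun {r} hr => ?_⟩
    · rw [← hψone, ← h, map_zero]
    · obtain ⟨k, rfl⟩ := hRgen r hr
      exact ⟨X' ^ ((p - 1) * k), by
        rw [← pow_add, show k + (p - 1) * k = p * k by
          rw [add_comm, ← Nat.succ_mul, Nat.succ_eq_add_one, Nat.sub_add_cancel hp.pos], pow_mul, hXp,
          one_pow]⟩
  letI : Field R := hRfield.toField
  haveI : Finite R := Finite.of_injective _ hψbij.1
  letI : Fintype R := Fintype.ofFinite R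
  letI : Fintype (GaloisField 2 q) := Fintype.ofFinite _
  let E := GaloisField 2 q
  have hE : Nat.card E = p + 1 := by rw [GaloisField.card 2 q hqp.ne_zero, hpq]
  let e0 : R ≃+* E := FiniteField.ringEquivOfCardEq (by
    rw [← Nat.card_eq_fintype_card, ← Nat.card_eq_fintype_card, Nat.card_eq_of_bijective _ hψbij,
      hE, ← hNc]
    rfl)
  let Ψ : E ≃+ M := e0.symm.toAddEquiv.trans (AddEquiv.ofBijective ψ hψbij)
  set ζ : E := e0 X' with hζ
  have hΨone : Ψ 1 = v0 := by
    show ψ (e0.symm 1) = v0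
    rw [map_one, hψone]
  have hΨpow : ∀ (k : ℕ) x, Ψ (ζ ^ k * x) = act (u ^ k) (Ψ x) := by
    intro k x
    show ψ (e0.symm (ζ ^ k * x)) = _
    rw [map_mul, map_pow, hζ, e0.symm_apply_apply, hψpow]
    rfl
  have hEgen : ∀ x : E, x ≠ 0 → ∃ k : ℕ, ζ ^ k = x := by
    intro x hx
    obtain ⟨k, hk⟩ := hRgen (e0.symm x) (by simpa using hx)
    exact ⟨k, by rw [hζ, ← map_pow, hk, e0.apply_symm_apply]⟩
  -- the point bijection
  let e : α ≃ E := (Equiv.ofBijective _ hbij).symm.trans (Additive.ofMul.trans Ψ.symm.toEquiv)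
  have he : ∀ x, e.symm x = (((Ψ x).toMul : N) : G) • a := fun x => rfl
  -- the semilinear maps
  let θ : G → E ≃+ E := fun h => (Ψ.trans (act h)).trans Ψ.symm
  have hΨθ : ∀ h x, Ψ (θ h x) = act h (Ψ x) := fun h x => Ψ.apply_symm_apply _
  have hθmul : ∀ g h x, θ (g * h) x = θ g (θ h x) := fun g h x =>
    Ψ.injective (by rw [hΨθ, hΨθ, hΨθ, act_mul])
  have hsemi : ∀ h ∈ stabilizer G a, ∀ x y, θ h (x * y) = (θ h 1)⁻¹ * θ h x * θ h y := by
    intro h hh x y
    have hne : θ h 1 ≠ 0 := fun h0 => one_ne_zero ((θ h).injective (h0.trans (map_zero _).symm))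
    by_cases hx : x = 0
    · simp [hx]
    obtain ⟨k, hk⟩ := hEgen x hx
    obtain ⟨l, hl⟩ := huU _ (hUn h hh _ (pow_mem u0.2 k))
    have key : ∀ y, θ h (ζ ^ k * y) = ζ ^ l * θ h y := fun y => Ψ.injective (by
      rw [hΨθ, hΨpow, hΨpow, hΨθ, ← act_mul, ← act_mul, hl, inv_mul_cancel_right])
    have h1 := key 1
    rw [mul_one] at h1
    rw [← hk, key, h1, mul_left_comm (θ h 1)⁻¹, inv_mul_cancel₀ hne, mul_one]
  have hcne : ∀ h, θ h 1 ≠ 0 := fun h h0 =>
    one_ne_zero ((θ h).injective (h0.trans (map_zero _).symm))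
  let Φ0 : stabilizer G a → (E ≃+* E) := fun h =>
    { toFun := fun x => (θ h 1)⁻¹ * θ h x
      invFun := fun x => (θ h).symm (θ h 1 * x)
      left_inv := fun x => by
        simp only [mul_inv_cancel_left₀ (hcne h), AddEquiv.symm_apply_apply]
      right_inv := fun x => by
        simp only [AddEquiv.apply_symm_apply, inv_mul_cancel_left₀ (hcne h)]
      map_mul' := fun x y => by
        rw [hsemi h h.2]; ring
      map_add' := fun x y => by rw [map_add, mul_add] }
  have hΦ0 : ∀ (h : stabilizer G a) x, θ h x = θ h 1 * Φ0 h x := fun h x =>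
    (mul_inv_cancel_left₀ (hcne h) _).symm
  refine ⟨q, hqp, hpq, ?_, e, fun g => ?_⟩
  · -- `d` divides the order of the automorphism group
    let Φ : stabilizer G a →* RingAut E := MonoidHom.mk' Φ0 fun g h => RingEquiv.ext fun x => by
      show (θ (g * h) 1)⁻¹ * θ (g * h) x = (θ g 1)⁻¹ * θ g ((θ h 1)⁻¹ * θ h x)
      rw [hθmul, hθmul, hsemi g g.2 (θ h 1)⁻¹]
      have h1 := hsemi g g.2 (θ h 1) (θ h 1)⁻¹
      rw [mul_inv_cancel₀ (hcne h)] at h1
      have h3 : (θ g (θ h 1))⁻¹ = (θ g 1)⁻¹ * (θ g 1)⁻¹ * θ g (θ h 1)⁻¹ :=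
        inv_eq_of_mul_eq_one_right (by
          rw [show θ g (θ h 1) * ((θ g 1)⁻¹ * (θ g 1)⁻¹ * θ g (θ h 1)⁻¹) =
            (θ g 1)⁻¹ * ((θ g 1)⁻¹ * θ g (θ h 1) * θ g (θ h 1)⁻¹) by ring, ← h1,
            inv_mul_cancel₀ (hcne g)])
      rw [h3]
      ring
    have hker : Nat.card Φ.ker = p := by
      refine le_antisymm ?_ ?_
      · refine le_trans (Nat.card_le_card_of_injective
          (fun h : Φ.ker => (⟨θ (h : stabilizer G a) 1, hcne _⟩ : {x : E // x ≠ 0})) ?_) ?_
        · intro g h hgh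
          have hgh' : θ (g : stabilizer G a) 1 = θ (h : stabilizer G a) 1 := congrArg Subtype.val hgh
          refine Subtype.ext (Subtype.ext (FaithfulSMul.eq_of_smul_eq_smul (α := α) fun z => ?_))
          obtain ⟨⟨n, hn⟩, rfl⟩ := hbij.2 z
          have hθ : θ (g : stabilizer G a) (Ψ.symm (Additive.ofMul ⟨n, hn⟩))
              = θ (h : stabilizer G a) (Ψ.symm (Additive.ofMul ⟨n, hn⟩)) := by
            rw [hΦ0 g (Ψ.symm (Additive.ofMul ⟨n, hn⟩)), hΦ0 h (Ψ.symm (Additive.ofMul ⟨n, hn⟩)),
              hgh', show Φ0 g = Φ0 h from (MonoidHom.mem_ker.1 g.2).trans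
              (MonoidHom.mem_ker.1 h.2).symm]
          have h3 := congrArg (fun t => ((Ψ t).toMul : G)) hθ
          simp only [hΨθ, act_val, Ψ.apply_symm_apply, toMul_ofMul] at h3
          have hg : ((g : stabilizer G a) : G)⁻¹ • a = a := inv_mem (g : stabilizer G a).2
          have hh : ((h : stabilizer G a) : G)⁻¹ • a = a := inv_mem (h : stabilizer G a).2
          have h4 := congrArg (fun t : G => t • a) h3
          simpa only [mul_smul, hg, hh] using h4
        · have hs : Nat.card {x : E // x ≠ 0} = p := by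
            rw [Nat.card_eq_fintype_card, Fintype.card_subtype_compl, Fintype.card_subtype_eq,
              ← Nat.card_eq_fintype_card, hE, Nat.add_sub_cancel]
          rw [hs]
      · calc p = Nat.card (U.subgroupOf (stabilizer G a)) := by
              rw [Nat.card_congr (Subgroup.subgroupOfEquivOfLe hUa).toEquiv, hUc]
          _ ≤ Nat.card Φ.ker := Nat.card_le_card_of_injective
              (Subgroup.inclusion (fun w hw => MonoidHom.mem_ker.2 (RingEquiv.ext fun x => by
                obtain ⟨k, hk⟩ := huU _ hw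
                show (θ (w : G) 1)⁻¹ * θ (w : G) x = x
                have key : ∀ y, θ (w : G) y = ζ ^ k * y := fun y => Ψ.injective (by
                  rw [hΨθ, hΨpow, hk]
                  rfl)
                have hz : ζ ^ k ≠ 0 := fun h0 => hcne (w : G) (by rw [key, h0, zero_mul])
                rw [key, key, mul_one, inv_mul_cancel_left₀ hz])))
              (Subgroup.inclusion_injective _)
    have hrange : Nat.card Φ.range = d := by
      have h := Subgroup.card_eq_card_quotient_mul_card_subgroup Φ.ker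
      rw [Nat.card_congr (QuotientGroup.quotientKerEquivRange Φ).toEquiv, hker, hstab,
        mul_comm] at h
      exact (Nat.eq_of_mul_eq_mul_right hp.pos h).symm
    have hcard : Nat.card (RingAut E) = q := by
      refine Eq.trans ?_ ((IsGalois.card_aut_eq_finrank (ZMod 2) E).trans
        (GaloisField.finrank 2 hqp.ne_zero))
      exact Nat.card_congr
        { toFun := fun φ => AlgEquiv.ofRingEquiv (f := φ) fun r =>
            DFunLike.congr_fun (RingHom.ext_zmod ((φ : E →+* E).comp (algebraMap (ZMod 2) E))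
              (algebraMap (ZMod 2) E)) r
          invFun := fun φ => φ.toRingEquiv
          left_inv := fun φ => RingEquiv.ext fun x => rfl
          right_inv := fun φ => AlgEquiv.ext fun x => rfl }
    have := Subgroup.card_subgroup_dvd_card Φ.range
    rw [hrange, hcard] at this
    exact (Nat.dvd_prime hqp).1 this
  · obtain ⟨n, hn⟩ := exists_smul_eq N a (g • a)
    have hh : (n : G)⁻¹ * g ∈ stabilizer G a := by
      rw [mem_stabilizer_iff, mul_smul, inv_smul_eq_iff]
      exact hn.symm
    set h : stabilizer G a := ⟨(n : G)⁻¹ * g, hh⟩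
    refine ⟨Units.mk0 _ (hcne h), Ψ.symm (Additive.ofMul n), Φ0 h, fun x => ?_⟩
    rw [Units.val_mk0, ← hΦ0]
    apply e.symm.injective
    rw [e.symm_apply_apply, he, he, map_add, Ψ.apply_symm_apply, hΨθ]
    show g • ((Ψ x).toMul : G) • a = ((act h (Ψ x)).toMul * n : N) • a
    rw [mul_comm (act h (Ψ x)).toMul n]
    show _ = ((n : G) * ((act h (Ψ x)).toMul : G)) • a
    rw [act_val, ← mul_smul]
    have hi : (h : G)⁻¹ • a = a := inv_mem h.2
    rw [show (n : G) * ((h : G) * ((Ψ x).toMul : G) * (h : G)⁻¹) =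
        g * ((Ψ x).toMul : G) * (h : G)⁻¹ by simp [h, mul_assoc], mul_smul, mul_smul (g * _), hi,
      ← mul_smul]

end Cfsg.Agent.Lib.PrimeKernel
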